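import Cfsg.Agent.PermCent.Frame

/-!
# Centralisers of elements in a framed permutation group

For every point `p` the cycle of which carries a representative, a check excludes that an element
commuting with the word sends `0` to the representative, except for the representative `0`.
-/

set_option autoImplicit false

namespace Cfsg.Agent.PermCent

open Cfsg.Agent.CosetCert Cfsg.Agent.CosetEnum

/-- Data excluding one point: exponents `i`, `j`, a word moving the second base point to the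
image of the `i`-th iterate, one moving it to the `i`-th iterate, and a preimage of the `j`-th. -/
structure Alt where
  /-- point -/
  p : ℕ
  /-- exponent -/
  i : ℕ
  /-- exponent -/
  j : ℕ
  /-- word -/
  h0 : List ℕ
  /-- word -/
  t : List ℕ
  /-- preimage -/
  b : ℕ

variable {N : ℕ} (F : Frame N)

namespace Frame

/-- The quick exclusion, by a labelling of the points that the stabiliser of the first base point
respects. -/
noncomputable def _root_.Cfsg.Agent.PermCent.Tables.quickOK (F : Tables N) (lab : ℕ → ℕ) (c : List ℕ) (fuel i p : ℕ) : Bool :=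
  let r := pinv F.T F.inv F.par fuel p (iterW F.T c i p)
  !(Nat.beq r 4294967295) && !(Nat.beq (lab r) (lab (iterW F.T c i 0)))

/-- The slower exclusion. -/
noncomputable def _root_.Cfsg.Agent.PermCent.Tables.altOK (F : Tables N) (c : List ℕ) (fuel : ℕ) (a : Alt) : Bool :=
  let u := pinv F.T F.inv F.par fuel a.p (iterW F.T c a.i a.p)
  let v := pinv F.T F.inv F.par fuel a.p (iterW F.T c a.j a.p)
  (a.h0 ++ a.t).all (fun l => F.letters.contains l) &&
    (Nat.beq (runWord F.T a.h0 0) 0 && (Nat.beq (runWord F.T a.t 0) 0 &&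
    (Nat.beq (runWord F.T a.h0 F.L1.base) u && (!(Nat.beq u 4294967295) &&
    (Nat.beq (runWord F.T a.t F.L1.base) (iterW F.T c a.i 0) && (Nat.blt a.b N &&
    (Nat.beq (runWord F.T a.t a.b) (iterW F.T c a.j 0) &&
    F.K.all (fun k => !(Nat.beq (runWord F.T a.h0 (runWord F.T k a.b)) v))))))))) 

theorem val_pow_apply {c : List ℕ} (hc : ∀ l ∈ c, l ∈ F.letters) (n : ℕ) (i : Fin N) :
    ((F.val c ^ n) i : ℕ) = iterW F.T c n i := by
  induction n with
  | zero => rfl
  | succ n ih => rw [pow_succ', Equiv.Perm.mul_apply, F.val_apply hc, ih]; rfl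

theorem pow_apply_comm {c : List ℕ} {x : Equiv.Perm (Fin N)} (hx : x * F.val c = F.val c * x)
    (n : ℕ) (i : Fin N) : x ((F.val c ^ n) i) = (F.val c ^ n) (x i) := by
  rw [← Equiv.Perm.mul_apply, ← Equiv.Perm.mul_apply, (Commute.pow_right hx n).eq]

theorem exists_lift (fuel : ℕ) (p : Fin N) {x : Equiv.Perm (Fin N)} (hxR : x ∈ F.R)
    (hx0 : x F.z0 = p) {q₀ : ℕ} (hne : pinv F.T F.inv F.par fuel p q₀ ≠ 4294967295) :
    ∃ τ ∈ F.R, τ * x ∈ F.H ∧ ∀ q : Fin N, (τ q : ℕ) = pinv F.T F.inv F.par fuel p q := by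
  obtain ⟨τ, hτ, h1, h2⟩ := F.exists_path fuel p hne
  exact ⟨τ, hτ, F.mem_H.2 ⟨F.R.mul_mem hτ hxR, by rw [Equiv.Perm.mul_apply, hx0, h1]⟩, h2⟩

theorem quick_sound {lab : ℕ → ℕ}
    (hlab : ∀ τ ∈ F.H, ∀ q : Fin N, lab (τ q : ℕ) = lab (q : ℕ)) {c : List ℕ} (hc : ∀ l ∈ c, l ∈ F.letters) {fuel i : ℕ} {p : Fin N}
    (h : F.quickOK lab c fuel i p = true) {x : Equiv.Perm (Fin N)} (hxR : x ∈ F.R)
    (hx : x * F.val c = F.val c * x) : x F.z0 ≠ p := by
  intro hx0
  simp only [Tables.quickOK, Bool.and_eq_true, Bool.not_eq_true'] at h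
  rw [show iterW F.T c i p = ((F.val c ^ i) p : ℕ) from (F.val_pow_apply hc i p).symm] at h
  have hne : pinv F.T F.inv F.par fuel p ((F.val c ^ i) p : ℕ) ≠ 4294967295 :=
    Nat.ne_of_beq_eq_false h.1
  obtain ⟨τ, -, hmem, hτq⟩ := F.exists_lift fuel p hxR hx0 hne
  have e : (τ * x) ((F.val c ^ i) F.z0) = τ ((F.val c ^ i) p) := by
    rw [Equiv.Perm.mul_apply, F.pow_apply_comm hx, hx0]
  have h2 := hlab _ hmem ((F.val c ^ i) F.z0)
  rw [e, hτq, F.val_pow_apply hc i F.z0] at h2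
  refine Nat.ne_of_beq_eq_false h.2 ?_
  simpa [z0] using h2

theorem alt_sound {c : List ℕ} (hc : ∀ l ∈ c, l ∈ F.letters) {fuel : ℕ} (a : Alt) {p : Fin N}
    (hp : (p : ℕ) = a.p) (h : F.altOK c fuel a = true) {x : Equiv.Perm (Fin N)} (hxR : x ∈ F.R)
    (hx : x * F.val c = F.val c * x) : x F.z0 ≠ p := by
  intro hx0
  simp only [Tables.altOK, Bool.and_eq_true, List.all_eq_true, Bool.not_eq_true', List.contains_iff_mem,
    List.mem_append] at h
  obtain ⟨hl, hh0, ht0, hh1, hu, ht1, hb, htb, hk⟩ := h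
  have hbN : a.b < N := Nat.le_of_ble_eq_true hb
  rw [← hp, show iterW F.T c a.i p = ((F.val c ^ a.i) p : ℕ) from (F.val_pow_apply hc _ p).symm]
    at hu hh1
  rw [← hp, show iterW F.T c a.j p = ((F.val c ^ a.j) p : ℕ) from (F.val_pow_apply hc _ p).symm]
    at hk
  obtain ⟨τ, hτR, hτp, hτq⟩ := F.exists_path fuel p (Nat.ne_of_beq_eq_false hu)
  have hmem : τ * x ∈ F.H :=
    F.mem_H.2 ⟨F.R.mul_mem hτR hxR, by rw [Equiv.Perm.mul_apply, hx0, hτp]⟩
  have hlh : ∀ l ∈ a.h0, l ∈ F.letters := fun l h => hl l (Or.inl h)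
  have hlt : ∀ l ∈ a.t, l ∈ F.letters := fun l h => hl l (Or.inr h)
  have H0 : F.val a.h0 ∈ F.H := F.mem_H.2 ⟨F.val_mem hlh,
    Fin.ext (by rw [F.val_apply hlh]; exact Nat.eq_of_beq_eq_true hh0)⟩
  have Ht : F.val a.t ∈ F.H := F.mem_H.2 ⟨F.val_mem hlt,
    Fin.ext (by rw [F.val_apply hlt]; exact Nat.eq_of_beq_eq_true ht0)⟩
  let k := (F.val a.h0)⁻¹ * (τ * x) * F.val a.t
  have e1 : F.val a.t F.z1 = (F.val c ^ a.i) F.z0 := Fin.ext (by
    rw [F.val_apply hlt, F.val_pow_apply hc]; exact Nat.eq_of_beq_eq_true ht1)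
  have e2 : F.val a.h0 F.z1 = τ ((F.val c ^ a.i) p) := Fin.ext (by
    rw [F.val_apply hlh, hτq]; exact Nat.eq_of_beq_eq_true hh1)
  have hkH : k ∈ F.H := F.H.mul_mem (F.H.mul_mem (F.H.inv_mem H0) hmem) Ht
  have hk1 : k F.z1 = F.z1 := by
    simp only [k, Equiv.Perm.mul_apply, e1, F.pow_apply_comm hx, hx0, ← e2]
    simp
  obtain ⟨w, hw, hkw⟩ := F.mem_K hkH hk1
  refine absurd ?_ (Nat.ne_of_beq_eq_false (hk w hw))
  have e3 : F.val a.t ⟨a.b, hbN⟩ = (F.val c ^ a.j) F.z0 := Fin.ext (by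
    rw [F.val_apply hlt, F.val_pow_apply hc]; exact Nat.eq_of_beq_eq_true htb)
  have e4 : F.val a.h0 (F.val w ⟨a.b, hbN⟩) = τ ((F.val c ^ a.j) p) := by
    rw [← hkw]
    simp only [k, Equiv.Perm.mul_apply, e3, F.pow_apply_comm hx, hx0]
    simp
  rw [← hτq ((F.val c ^ a.j) p), ← e4, F.val_apply hlh, F.val_apply (F.hK w hw).1]

/-- Two words agree on the three base points. -/
noncomputable def _root_.Cfsg.Agent.PermCent.Tables.sameOK (F : Tables N) (u v : List ℕ) : Bool :=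
  Nat.beq (runWord F.T u 0) (runWord F.T v 0) &&
    (Nat.beq (runWord F.T u F.L1.base) (runWord F.T v F.L1.base) &&
      Nat.beq (runWord F.T u F.b2) (runWord F.T v F.b2))

theorem val_eq {u v : List ℕ} (hu : ∀ l ∈ u, l ∈ F.letters) (hv : ∀ l ∈ v, l ∈ F.letters)
    (h : F.sameOK u v = true) : F.val u = F.val v := by
  simp only [Tables.sameOK, Bool.and_eq_true] at h
  refine inv_mul_eq_one.1 (F.hbase _ (F.R.mul_mem (F.R.inv_mem (F.val_mem hu)) (F.val_mem hv))
    fun i hi => ?_)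
  have e : F.val u i = F.val v i := Fin.ext (by
    rw [F.val_apply hu, F.val_apply hv]
    rcases hi with h' | h' | h' <;> rw [h']
    exacts [Nat.eq_of_beq_eq_true h.1, Nat.eq_of_beq_eq_true h.2.1, Nat.eq_of_beq_eq_true h.2.2])
  rw [Equiv.Perm.mul_apply, ← e, Equiv.Perm.inv_def, Equiv.symm_apply_apply]

theorem val_append (u v : List ℕ) : F.val (u ++ v) = F.val v * F.val u := pval_append F.σ u v

/-- The check at one point of a table of cycle positions: positions `0` are the representatives. -/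
noncomputable def _root_.Cfsg.Agent.PermCent.Tables.pointOK (F : Tables N) (lab : ℕ → ℕ) (c cinv : List ℕ) (fuel n : ℕ) (code : ℕ → ℕ)
    (reps : List ℕ) (p : ℕ) : Bool :=
  let v := code p
  Nat.blt (Nat.div v 256) n &&
    cond (Nat.beq (Nat.div v 256) 0)
      (F.quickOK lab c fuel (Nat.mod v 256) p || reps.any fun r => Nat.beq r p)
      (Nat.beq (Nat.add (Nat.div (code (runWord F.T cinv p)) 256) 1) (Nat.div v 256))

theorem cover {lab : ℕ → ℕ} {c cinv : List ℕ} (hc : ∀ l ∈ c, l ∈ F.letters)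
    (hci : ∀ l ∈ cinv, l ∈ F.letters) (hcc : F.val (cinv ++ c) = 1) {fuel n : ℕ} {code : ℕ → ℕ}
    {reps : List ℕ} (hok : ∀ p < N, F.pointOK lab c cinv fuel n code reps p = true) (p : Fin N) :
    ∃ r : Fin N, (∃ i < n, iterW F.T c i r = p) ∧
      ((∃ i, F.quickOK lab c fuel i r = true) ∨ (r : ℕ) ∈ reps) := by
  suffices H : ∀ m (p : Fin N), Nat.div (code p) 256 = m → ∃ r : Fin N,
      iterW F.T c m r = p ∧ ((∃ i, F.quickOK lab c fuel i r = true) ∨ (r : ℕ) ∈ reps) by
    obtain ⟨r, h1, h2⟩ := H _ p rfl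
    have h := hok p p.2
    simp only [Tables.pointOK, Bool.and_eq_true] at h
    exact ⟨r, ⟨_, Nat.le_of_ble_eq_true h.1, h1⟩, h2⟩
  intro m
  induction m with
  | zero =>
    intro p hm
    have h := hok p p.2
    simp only [Tables.pointOK, Bool.and_eq_true] at h
    have h2 := h.2
    rw [hm, Nat.beq_refl, cond_true, Bool.or_eq_true] at h2
    refine ⟨p, rfl, h2.imp (fun h => ⟨_, h⟩) fun h => ?_⟩
    obtain ⟨r, hr, hrp⟩ := List.any_eq_true.1 h
    rw [← Nat.eq_of_beq_eq_true hrp]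
    exact hr
  | succ m ih =>
    intro p hm
    have h := hok p p.2
    simp only [Tables.pointOK, Bool.and_eq_true] at h
    have h2 := h.2
    rw [hm, show Nat.beq (m + 1) 0 = false from rfl, cond_false] at h2
    have hq : Nat.div (code (runWord F.T cinv p)) 256 = m :=
      Nat.succ_injective (Nat.eq_of_beq_eq_true h2)
    rw [← F.val_apply hci p] at hq
    obtain ⟨r, hr, hor⟩ := ih (F.val cinv p) hq
    refine ⟨r, ?_, hor⟩
    show runWord F.T c (iterW F.T c m r) = p
    rw [hr, ← F.val_apply hc, ← Equiv.Perm.mul_apply, ← F.val_append, hcc, Equiv.Perm.one_apply]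

end Frame

end Cfsg.Agent.PermCent
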