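import Cfsg.Agent.CosetEnum.BasePoints

/-!
# A permutation group given by tables and a chain of three levels reaching its order

The orbit of the second base point under the stabiliser of the first is the listed one, and the
stabiliser of both is a given list of words.
-/

set_option autoImplicit false

namespace Cfsg.Agent.PermCent

open Cfsg.Agent.CosetCert Cfsg.Agent.CosetEnum

/-- Membership of a point in the orbit listed by a level. -/
noncomputable def inLev (L : Level) (q : ℕ) : Bool :=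
  Nat.blt (L.rank.get 32 q) L.size && Nat.beq (L.ord.get 32 (L.rank.get 32 q)) q

/-- Apply the inverse of the tree path from `0` to `p`. -/
noncomputable def pinv (T : ℕ → ℕ → ℕ) (inv : ℕ → ℕ) (par : ℕ → ℕ) (n : ℕ) : ℕ → ℕ → ℕ :=
  Nat.rec (motive := fun _ => ℕ → ℕ → ℕ) (fun p q => cond (Nat.beq p 0) q 4294967295)
    (fun _ ih p q => cond (Nat.beq p 0) q
      (ih (Nat.div (par p) 256) (T (inv (Nat.mod (par p) 256)) q))) n

/-- Iterate a word. -/
noncomputable def iterW (T : ℕ → ℕ → ℕ) (w : List ℕ) (n i : ℕ) : ℕ :=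
  Nat.rec (motive := fun _ => ℕ) i (fun _ j => runWord T w j) n

/-- The computable part of the data. -/
structure Tables (N : ℕ) where
  /-- tables -/
  T : ℕ → ℕ → ℕ
  /-- letters -/
  letters : List ℕ
  /-- inverse letter -/
  inv : ℕ → ℕ
  /-- 256 times the parent, plus the letter -/
  par : ℕ → ℕ
  /-- first level -/
  L0 : Level
  /-- second level -/
  L1 : Level
  /-- third base point -/
  b2 : ℕ
  /-- words for the stabiliser of the first two base points -/
  K : List (List ℕ)

/-- The hypotheses: a group of permutations given by tables, with a chain of three levels whose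
product is at least the order. -/
structure Frame (N : ℕ) extends Tables N where
  /-- permutation of a letter -/
  σ : ℕ → Equiv.Perm (Fin N)
  /-- the group -/
  R : Subgroup (Equiv.Perm (Fin N))
  hσ : ∀ l ∈ letters, ∀ i, (σ l i : ℕ) = T l i
  hR : ∀ l ∈ letters, σ l ∈ R
  hinv : ∀ l ∈ letters, inv l ∈ letters ∧ σ (inv l) = (σ l)⁻¹
  hpar : ∀ p < N, p ≠ 0 → Nat.div (par p) 256 < p ∧ Nat.mod (par p) 256 ∈ letters ∧
    T (Nat.mod (par p) 256) (Nat.div (par p) 256) = p
  hchain : ChainValid N T letters [] [L0, L1]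
  h0 : L0.base = 0
  hsize0 : L0.size = N
  hcard : Nat.card R ≤ N * (L1.size * K.length)
  h1 : L1.base < N
  h2 : b2 < N
  hK : ∀ k ∈ K, (∀ l ∈ k, l ∈ letters) ∧ runWord T k 0 = 0 ∧ runWord T k L1.base = L1.base
  hKnd : (K.map fun k => runWord T k b2).Nodup
  hbase : ∀ τ ∈ R, (∀ i : Fin N, ((i : ℕ) = 0 ∨ (i : ℕ) = L1.base ∨ (i : ℕ) = b2) → τ i = i) → τ = 1

variable {N : ℕ} (F : Frame N)

namespace Frame

/-- The permutation of a word. -/
def val (w : List ℕ) : Equiv.Perm (Fin N) := pval F.σ w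

theorem val_apply {w : List ℕ} (hw : ∀ l ∈ w, l ∈ F.letters) (i : Fin N) :
    (F.val w i : ℕ) = runWord F.T w i :=
  runWord_pval F.T F.letters F.σ F.hσ w hw i

theorem val_mem : ∀ {w : List ℕ}, (∀ l ∈ w, l ∈ F.letters) → F.val w ∈ F.R := by
  intro w hw
  induction w with
  | nil => exact F.R.one_mem
  | cons l ls ih =>
    exact F.R.mul_mem (ih fun m hm => hw m (List.mem_cons_of_mem _ hm))
      (F.hR l (hw l List.mem_cons_self))

include F in
theorem pos : 0 < N := lt_of_le_of_lt (Nat.zero_le _) F.h1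

/-- The first base point. -/
def z0 : Fin N := ⟨0, F.pos⟩

/-- The second base point. -/
def z1 : Fin N := ⟨F.L1.base, F.h1⟩

/-- The third base point. -/
def z2 : Fin N := ⟨F.b2, F.h2⟩

/-- The stabiliser of the first base point. -/
def H : Subgroup (Equiv.Perm (Fin N)) := F.R ⊓ MulAction.stabilizer _ F.z0

theorem mem_H {τ : Equiv.Perm (Fin N)} : τ ∈ F.H ↔ τ ∈ F.R ∧ τ F.z0 = F.z0 := by
  rw [H, Subgroup.mem_inf, MulAction.mem_stabilizer_iff]; rfl

theorem card_H_le : Nat.card F.H ≤ F.L1.size * F.K.length := by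
  have hc : ChainValid N F.T F.letters [] [F.L0] := ⟨F.hchain.1, F.hchain.2.1, trivial⟩
  have h := chainProd_mul_le F.T F.letters F.σ F.hσ F.R F.hR [F.L0] [] hc
  have hle : Nat.card F.H ≤ Nat.card {τ : Equiv.Perm (Fin N) // τ ∈ F.R ∧ ∀ i : Fin N,
      ((i : ℕ) ∈ ([] : List ℕ) ∨ (i : ℕ) ∈ [F.L0].map Level.base) → τ i = i} :=
    Nat.card_le_card_of_injective (fun τ => ⟨τ.1, (F.mem_H.1 τ.2).1, fun i hi => by
      have hi0 : (i : ℕ) = 0 := by simpa [F.h0] using hi
      have : i = F.z0 := Fin.ext hi0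
      rw [this]; exact (F.mem_H.1 τ.2).2⟩)
      fun a b h => Subtype.ext (congrArg (fun t => t.1) h)
  have hR' : Nat.card {τ : Equiv.Perm (Fin N) //
      τ ∈ F.R ∧ ∀ i : Fin N, (i : ℕ) ∈ ([] : List ℕ) → τ i = i} ≤ Nat.card F.R :=
    Nat.card_le_card_of_injective (fun τ => (⟨τ.1, τ.2.1⟩ : F.R))
      fun a b h => Subtype.ext (congrArg (fun x : F.R => (x : Equiv.Perm (Fin N))) h)
  have h' : N * Nat.card F.H ≤ N * (F.L1.size * F.K.length) := by
    have e : chainProd [F.L0] = N := by simp [chainProd, F.hsize0]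
    calc N * Nat.card F.H ≤ N * _ := Nat.mul_le_mul le_rfl hle
      _ = chainProd [F.L0] * _ := by rw [e]
      _ ≤ _ := h
      _ ≤ _ := hR'.trans F.hcard
  exact Nat.le_of_mul_le_mul_left h' F.pos

theorem level_mem {r : ℕ} (hr : r < F.L1.size) : F.L1.ord.get 32 r < N ∧
    F.L1.rank.get 32 (F.L1.ord.get 32 r) = r := by
  have h := F.hchain.2.2.2.1 r hr
  simp only [Level.ok, Bool.and_eq_true] at h
  exact ⟨Nat.le_of_ble_eq_true h.1, Nat.eq_of_beq_eq_true h.2.1⟩

theorem level_reach {r : ℕ} (hr : r < F.L1.size) :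
    ∃ τ ∈ F.H, (τ F.z1 : ℕ) = F.L1.ord.get 32 r := by
  induction r using Nat.strong_induction_on with
  | _ r ih =>
    obtain ⟨hg, hok, -⟩ := F.hchain.2.2
    have h := hok r hr
    simp only [Level.ok, Bool.and_eq_true] at h
    have h3 := h.2.2
    cases hb : Nat.beq r 0 with
    | true =>
      rw [hb, cond_true] at h3
      obtain rfl := Nat.eq_of_beq_eq_true hb
      exact ⟨1, F.H.one_mem, (Nat.eq_of_beq_eq_true h3).symm⟩
    | false =>
      rw [hb, cond_false] at h3
      simp only [Bool.and_eq_true] at h3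
      obtain ⟨hp, hj, hrun⟩ := h3
      have hp' : Nat.div (F.L1.par.get 32 r) 256 < r := Nat.le_of_ble_eq_true hp
      obtain ⟨τ, hτ, hτ1⟩ := ih _ hp' (hp'.trans hr)
      have hj' : Nat.mod (F.L1.par.get 32 r) 256 < F.L1.gens.length := Nat.le_of_ble_eq_true hj
      set u := F.L1.gens.getD (Nat.mod (F.L1.par.get 32 r) 256) [] with hu
      have humem : u ∈ F.L1.gens := by
        rw [hu, List.getD_eq_getElem _ _ hj']; exact List.getElem_mem hj'
      obtain ⟨hul, hufix⟩ := hg u humem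
      refine ⟨F.val u * τ, F.H.mul_mem (F.mem_H.2 ⟨F.val_mem hul, Fin.ext ?_⟩) hτ, ?_⟩
      · rw [F.val_apply hul]
        exact hufix 0 (by rw [← F.h0]; exact List.mem_cons_self)
      · rw [Equiv.Perm.mul_apply, F.val_apply hul, hτ1]
        exact Nat.eq_of_beq_eq_true hrun

theorem val_K_mem {k : List ℕ} (hk : k ∈ F.K) :
    F.val k ∈ F.H ∧ F.val k F.z1 = F.z1 := by
  obtain ⟨h1, h2, h3⟩ := F.hK k hk
  exact ⟨F.mem_H.2 ⟨F.val_mem h1, Fin.ext (by rw [F.val_apply h1]; exact h2)⟩,
    Fin.ext (by rw [F.val_apply h1]; exact h3)⟩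

/-- The two-point stabiliser inside `H`. -/
def H1 : Subgroup F.H := MulAction.stabilizer F.H F.z1

theorem card_K_le : F.K.length ≤ Nat.card F.H1 := by
  classical
  let f : Fin F.K.length → F.H1 := fun j =>
    ⟨⟨F.val F.K[j], (F.val_K_mem (List.getElem_mem j.2)).1⟩, (F.val_K_mem (List.getElem_mem j.2)).2⟩
  have hf : Function.Injective f := by
    intro i j hij
    have h : F.val F.K[i] F.z2 = F.val F.K[j] F.z2 :=
      congrArg (fun t : F.H1 => (t.1.1 : Equiv.Perm (Fin N)) F.z2) hij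
    have h' := congrArg Fin.val h
    rw [Fin.getElem_fin, Fin.getElem_fin,
      F.val_apply (F.hK _ (List.getElem_mem i.2)).1,
      F.val_apply (F.hK _ (List.getElem_mem j.2)).1] at h'
    exact Fin.ext (F.hKnd.getElem_inj_iff (hi := by simp) (hj := by simp) |>.1 (by simpa [Frame.z2] using h'))
  simpa using Nat.card_le_card_of_injective f hf

theorem card_orbit_ge : F.L1.size ≤ Nat.card (MulAction.orbit F.H F.z1) := by
  classical
  let f : Fin F.L1.size → MulAction.orbit F.H F.z1 := fun r =>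
    ⟨⟨_, (F.level_mem r.2).1⟩, by
      obtain ⟨τ, hτ, h⟩ := F.level_reach r.2
      exact ⟨⟨τ, hτ⟩, Fin.ext h⟩⟩
  have hf : Function.Injective f := by
    intro i j hij
    have h : F.L1.ord.get 32 i = F.L1.ord.get 32 j := congrArg (fun t => ((t.1 : Fin N) : ℕ)) hij
    have := congrArg (F.L1.rank.get 32) h
    rw [(F.level_mem i.2).2, (F.level_mem j.2).2] at this
    exact Fin.ext this
  simpa using Nat.card_le_card_of_injective f hf

theorem card_eq : Nat.card (MulAction.orbit F.H F.z1) * Nat.card F.H1 ≤ F.L1.size * F.K.length := by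
  have h := Nat.card_congr (MulAction.orbitProdStabilizerEquivGroup F.H F.z1)
  rw [Nat.card_prod] at h
  exact h ▸ F.card_H_le

theorem orbit_iff (q : Fin N) :
    q ∈ MulAction.orbit F.H F.z1 ↔ inLev F.L1 q = true := by
  classical
  constructor
  · intro hq
    let f : Fin F.L1.size → MulAction.orbit F.H F.z1 := fun r =>
      ⟨⟨_, (F.level_mem r.2).1⟩, by
        obtain ⟨τ, hτ, h⟩ := F.level_reach r.2
        exact ⟨⟨τ, hτ⟩, Fin.ext h⟩⟩
    have hf : Function.Injective f := by
      intro i j hij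
      have h : F.L1.ord.get 32 i = F.L1.ord.get 32 j := congrArg (fun t => ((t.1 : Fin N) : ℕ)) hij
      have := congrArg (F.L1.rank.get 32) h
      rw [(F.level_mem i.2).2, (F.level_mem j.2).2] at this
      exact Fin.ext this
    have hle : Nat.card (MulAction.orbit F.H F.z1) ≤ Nat.card (Fin F.L1.size) := by
      rw [Nat.card_fin]
      have hpos : 0 < Nat.card F.H1 := Nat.card_pos
      exact Nat.le_of_mul_le_mul_right
        (F.card_eq.trans (Nat.mul_le_mul le_rfl F.card_K_le)) hpos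
    obtain ⟨r, hr⟩ := (hf.bijective_of_nat_card_le hle).2 ⟨q, hq⟩
    have e : F.L1.ord.get 32 r = (q : ℕ) := congrArg (fun t => ((t.1 : Fin N) : ℕ)) hr
    have e2 := (F.level_mem r.2).2
    rw [e] at e2
    rw [inLev, e2, e, Bool.and_eq_true]
    exact ⟨Nat.ble_eq_true_of_le r.2, Nat.beq_refl _⟩
  · intro h
    rw [inLev, Bool.and_eq_true] at h
    obtain ⟨τ, hτ, hτ1⟩ := F.level_reach (Nat.le_of_ble_eq_true h.1)
    exact ⟨⟨τ, hτ⟩, Fin.ext (hτ1.trans (Nat.eq_of_beq_eq_true h.2))⟩

/-- The listed words exhaust the stabiliser of the first two base points. -/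
theorem mem_K {τ : Equiv.Perm (Fin N)} (hτ : τ ∈ F.H) (h1 : τ F.z1 = F.z1) :
    ∃ k ∈ F.K, τ = F.val k := by
  classical
  let f : Fin F.K.length → F.H1 := fun j =>
    ⟨⟨F.val F.K[j], (F.val_K_mem (List.getElem_mem j.2)).1⟩, (F.val_K_mem (List.getElem_mem j.2)).2⟩
  have hf : Function.Injective f := by
    intro i j hij
    have h : F.val F.K[i] F.z2 = F.val F.K[j] F.z2 :=
      congrArg (fun t : F.H1 => (t.1.1 : Equiv.Perm (Fin N)) F.z2) hij
    have h' := congrArg Fin.val h
    rw [Fin.getElem_fin, Fin.getElem_fin,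
      F.val_apply (F.hK _ (List.getElem_mem i.2)).1,
      F.val_apply (F.hK _ (List.getElem_mem j.2)).1] at h'
    exact Fin.ext (F.hKnd.getElem_inj_iff (hi := by simp) (hj := by simp) |>.1 (by simpa [Frame.z2] using h'))
  have hle : Nat.card F.H1 ≤ Nat.card (Fin F.K.length) := by
    rw [Nat.card_fin]
    by_cases hs : F.L1.size = 0
    · have := F.card_eq
      rw [hs, zero_mul] at this
      have h0 : 0 < Nat.card (MulAction.orbit F.H F.z1) * Nat.card F.H1 := by
        have : Nonempty (MulAction.orbit F.H F.z1) := ⟨⟨_, MulAction.mem_orbit_self _⟩⟩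
        exact Nat.mul_pos Nat.card_pos Nat.card_pos
      omega
    · exact Nat.le_of_mul_le_mul_left
        ((Nat.mul_le_mul F.card_orbit_ge le_rfl).trans F.card_eq) (Nat.pos_of_ne_zero hs)
  obtain ⟨j, hj⟩ := (hf.bijective_of_nat_card_le hle).2 ⟨⟨τ, hτ⟩, h1⟩
  exact ⟨_, List.getElem_mem j.2, (congrArg (fun t : F.H1 => t.1.1) hj).symm⟩

/-- The membership test is invariant under the stabiliser of the first base point. -/
theorem inLev_smul {τ : Equiv.Perm (Fin N)} (hτ : τ ∈ F.H) (q : Fin N) :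
    inLev F.L1 (τ q : ℕ) = inLev F.L1 (q : ℕ) := by
  rw [Bool.eq_iff_iff, ← F.orbit_iff, ← F.orbit_iff]
  constructor
  · intro h
    simpa [Subgroup.smul_def] using MulAction.mem_orbit_of_mem_orbit (⟨τ, hτ⟩⁻¹ : F.H) h
  · exact fun h => MulAction.mem_orbit_of_mem_orbit (⟨τ, hτ⟩ : F.H) h

/-- The inverse path is realised by one element of the group, or is too long. -/
theorem pinv_spec : ∀ (n : ℕ) (p : Fin N),
    (∃ τ ∈ F.R, τ p = F.z0 ∧ ∀ q : Fin N, (τ q : ℕ) = pinv F.T F.inv F.par n p q) ∨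
      ∀ q : ℕ, pinv F.T F.inv F.par n p q = 4294967295 := by
  intro n
  induction n with
  | zero =>
    intro p
    cases hp : Nat.beq (p : ℕ) 0 with
    | true =>
      refine Or.inl ⟨1, F.R.one_mem, Fin.ext (Nat.eq_of_beq_eq_true hp), fun q => ?_⟩
      simp [pinv, hp]
    | false => exact Or.inr fun q => by simp [pinv, hp]
  | succ n ih =>
    intro p
    cases hp : Nat.beq (p : ℕ) 0 with
    | true =>
      refine Or.inl ⟨1, F.R.one_mem, Fin.ext (Nat.eq_of_beq_eq_true hp), fun q => ?_⟩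
      simp [pinv, hp]
    | false =>
      have hp0 : (p : ℕ) ≠ 0 := fun e => by rw [e] at hp; exact absurd hp (by decide)
      obtain ⟨hlt, hl, hT⟩ := F.hpar p p.2 hp0
      set l := Nat.mod (F.par p) 256
      let p' : Fin N := ⟨Nat.div (F.par p) 256, hlt.trans p.2⟩
      obtain ⟨hil, hσi⟩ := F.hinv l hl
      obtain ⟨τ, hτ, h1, h2⟩ | h := ih p'
      · refine Or.inl ⟨τ * F.σ (F.inv l), F.R.mul_mem hτ (F.hR _ hil), ?_, fun q => ?_⟩
        · have e : F.σ l p' = p := Fin.ext ((F.hσ l hl p').trans hT)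
          rw [Equiv.Perm.mul_apply, hσi, ← e, Equiv.Perm.inv_def, Equiv.symm_apply_apply, h1]
        · rw [Equiv.Perm.mul_apply, h2, F.hσ _ hil q]
          simp [pinv, hp, l, p']
      · refine Or.inr fun q => ?_
        have := h (F.T (F.inv l) q)
        simpa [pinv, hp, l, p'] using this

/-- The element of the inverse path, if one value is not the sentinel. -/
theorem exists_path (n : ℕ) (p : Fin N) {q₀ : ℕ} (h : pinv F.T F.inv F.par n p q₀ ≠ 4294967295) :
    ∃ τ ∈ F.R, τ p = F.z0 ∧ ∀ q : Fin N, (τ q : ℕ) = pinv F.T F.inv F.par n p q :=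
  (F.pinv_spec n p).resolve_right fun hh => h (hh q₀)

end Frame

end Cfsg.Agent.PermCent
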