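import Cfsg.Agent.PermCent.Check

/-!
# Labellings respected by the stabiliser of the first base point, and centralisers
-/

set_option autoImplicit false

namespace Cfsg.Agent.PermCent

open Cfsg.Agent.CosetCert Cfsg.Agent.CosetEnum

variable {N : ℕ} (F : Frame N)

/-- A set of points given by an interval of ranks. -/
noncomputable def inIv (ord rank : PTree) (a b q : ℕ) : Bool :=
  Nat.ble a (rank.get 32 q) && Nat.blt (rank.get 32 q) b &&
    Nat.beq (ord.get 32 (rank.get 32 q)) q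

/-- Closure check of an interval set at one rank. -/
noncomputable def closedOK (T : ℕ → ℕ → ℕ) (ord rank : PTree) (a b : ℕ) (ls : List ℕ) (r : ℕ) :
    Bool :=
  Nat.beq (rank.get 32 (ord.get 32 r)) r &&
    ls.all fun l => inIv ord rank a b (T l (ord.get 32 r))

/-- The label from two interval sets and the second level. -/
noncomputable def label (ord rank : PTree) (a m b : ℕ) (L : Level) (q : ℕ) : ℕ :=
  cond (inLev L q) 1 (cond (inIv ord rank a m q) 2 (cond (inIv ord rank m b q) 3 0))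

namespace Frame

/-- Permutations respecting a function. -/
def pres {β : Type} (f : ℕ → β) : Subgroup (Equiv.Perm (Fin N)) where
  carrier := {τ | ∀ q : Fin N, f (τ q : ℕ) = f (q : ℕ)}
  one_mem' := fun _ => rfl
  mul_mem' := fun {τ τ'} h h' q => (h (τ' q)).trans (h' q)
  inv_mem' := fun {τ} h q => by
    have := h (τ⁻¹ q)
    rw [Equiv.Perm.inv_def, Equiv.apply_symm_apply] at this
    exact this.symm

theorem val_mem_of {P : Subgroup (Equiv.Perm (Fin N))} {w : List ℕ} (h : ∀ l ∈ w, F.σ l ∈ P) :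
    F.val w ∈ P := by
  induction w with
  | nil => exact P.one_mem
  | cons l ls ih =>
    exact P.mul_mem (ih fun m hm => h m (List.mem_cons_of_mem _ hm)) (h l List.mem_cons_self)

theorem H_le_pres {β : Type} {f : ℕ → β} {ls : List ℕ}
    (hls : ∀ u ∈ F.L1.gens ++ F.K, ∀ l ∈ u, l ∈ ls) (hP : ∀ l ∈ ls, F.σ l ∈ pres f) :
    F.H ≤ pres (N := N) f := by
  intro τ hτ
  have hreach : ∀ r < F.L1.size, ∃ t ∈ F.H, t ∈ pres (N := N) f ∧ (t F.z1 : ℕ) = F.L1.ord.get 32 r := by
    intro r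
    induction r using Nat.strong_induction_on with
    | _ r ih =>
      intro hr
      obtain ⟨hg, hok, -⟩ := F.hchain.2.2
      have h := hok r hr
      simp only [Level.ok, Bool.and_eq_true] at h
      have h3 := h.2.2
      cases hb : Nat.beq r 0 with
      | true =>
        rw [hb, cond_true] at h3
        obtain rfl := Nat.eq_of_beq_eq_true hb
        exact ⟨1, F.H.one_mem, (pres f).one_mem, (Nat.eq_of_beq_eq_true h3).symm⟩
      | false =>
        rw [hb, cond_false] at h3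
        simp only [Bool.and_eq_true] at h3
        obtain ⟨hp, hj, hrun⟩ := h3
        have hp' : Nat.div (F.L1.par.get 32 r) 256 < r := Nat.le_of_ble_eq_true hp
        obtain ⟨t, ht, htP, ht1⟩ := ih _ hp' (hp'.trans hr)
        have hj' : Nat.mod (F.L1.par.get 32 r) 256 < F.L1.gens.length := Nat.le_of_ble_eq_true hj
        set u := F.L1.gens.getD (Nat.mod (F.L1.par.get 32 r) 256) [] with hu
        have humem : u ∈ F.L1.gens := by
          rw [hu, List.getD_eq_getElem _ _ hj']; exact List.getElem_mem hj'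
        obtain ⟨hul, hufix⟩ := hg u humem
        refine ⟨F.val u * t, F.H.mul_mem (F.mem_H.2 ⟨F.val_mem hul, Fin.ext ?_⟩) ht,
          (pres f).mul_mem (F.val_mem_of fun l hl => hP l (hls u (List.mem_append_left _ humem) l hl))
            htP, ?_⟩
        · rw [F.val_apply hul]
          exact hufix 0 (by rw [← F.h0]; exact List.mem_cons_self)
        · rw [Equiv.Perm.mul_apply, F.val_apply hul, ht1]
          exact Nat.eq_of_beq_eq_true hrun
  have hq : τ F.z1 ∈ MulAction.orbit F.H F.z1 := ⟨⟨τ, hτ⟩, rfl⟩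
  rw [F.orbit_iff, inLev, Bool.and_eq_true] at hq
  obtain ⟨t, ht, htP, ht1⟩ := hreach _ (Nat.le_of_ble_eq_true hq.1)
  have e : t F.z1 = τ F.z1 := Fin.ext (ht1.trans (Nat.eq_of_beq_eq_true hq.2))
  obtain ⟨k, hk, hke⟩ := F.mem_K (τ := t⁻¹ * τ) (F.H.mul_mem (F.H.inv_mem ht) hτ) (by
    rw [Equiv.Perm.mul_apply, ← e, Equiv.Perm.inv_def, Equiv.symm_apply_apply])
  rw [show τ = t * (t⁻¹ * τ) by group, hke]
  exact (pres f).mul_mem htP
    (F.val_mem_of fun l hl => hP l (hls k (List.mem_append_right _ hk) l hl))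

theorem closed_pres {ord rank : PTree} {a b : ℕ} {ls : List ℕ} (hlsL : ∀ l ∈ ls, l ∈ F.letters)
    (hok : ∀ r, a ≤ r → r < b → closedOK F.T ord rank a b ls r = true) :
    ∀ l ∈ ls, F.σ l ∈ pres (N := N) (inIv ord rank a b) := by
  intro l hl
  classical
  let S : Finset (Fin N) := Finset.univ.filter fun q => inIv ord rank a b (q : ℕ) = true
  have hsub : S.map (F.σ l).toEmbedding ⊆ S := by
    intro q hq
    rw [Finset.mem_map] at hq
    obtain ⟨p, hp, rfl⟩ := hq
    simp only [S, Finset.mem_filter, Finset.mem_univ, true_and] at hp ⊢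
    simp only [inIv, Bool.and_eq_true] at hp
    have h := hok _ (Nat.le_of_ble_eq_true hp.1.1) (Nat.le_of_ble_eq_true hp.1.2)
    rw [closedOK, Bool.and_eq_true, List.all_eq_true] at h
    have h2 := h.2 l hl
    rw [Nat.eq_of_beq_eq_true hp.2] at h2
    rw [Equiv.coe_toEmbedding, F.hσ l (hlsL l hl)]
    exact h2
  have heq : S.map (F.σ l).toEmbedding = S :=
    Finset.eq_of_subset_of_card_le hsub (by rw [Finset.card_map])
  intro q
  rw [Bool.eq_iff_iff]
  constructor
  · intro h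
    have hm : F.σ l q ∈ S := by simp [S, h]
    rw [← heq, Finset.mem_map] at hm
    obtain ⟨p, hp, hpq⟩ := hm
    obtain rfl : p = q := (F.σ l).injective hpq
    simpa [S] using hp
  · intro h
    have hm : F.σ l q ∈ S.map (F.σ l).toEmbedding :=
      Finset.mem_map.2 ⟨q, by simp [S, h], rfl⟩
    rw [heq] at hm
    simpa [S] using hm

theorem label_pres {ord rank : PTree} {a m b : ℕ} {ls : List ℕ} (hlsL : ∀ l ∈ ls, l ∈ F.letters)
    (hls : ∀ u ∈ F.L1.gens ++ F.K, ∀ l ∈ u, l ∈ ls)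
    (h1 : ∀ r, a ≤ r → r < m → closedOK F.T ord rank a m ls r = true)
    (h2 : ∀ r, m ≤ r → r < b → closedOK F.T ord rank m b ls r = true) :
    ∀ τ ∈ F.H, ∀ q : Fin N,
      label ord rank a m b F.L1 (τ q : ℕ) = label ord rank a m b F.L1 (q : ℕ) := by
  intro τ hτ q
  have e1 := F.H_le_pres hls (F.closed_pres hlsL h1) hτ q
  have e2 := F.H_le_pres hls (F.closed_pres hlsL h2) hτ q
  have e3 := F.inLev_smul hτ q
  simp only [label, e1, e2, e3]

/-- **The centraliser of a word**: powers of it times listed elements. -/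
theorem centralizer {lab : ℕ → ℕ} (hlab : ∀ τ ∈ F.H, ∀ q : Fin N, lab (τ q : ℕ) = lab (q : ℕ))
    {c : List ℕ} (hc : ∀ l ∈ c, l ∈ F.letters) {fuel n : ℕ} (alts : List Alt)
    (halts : ∀ a ∈ alts, F.altOK c fuel a = true)
    (W : List (List ℕ))
    (hW : ∀ w ∈ W, (∀ l ∈ w, l ∈ F.letters) ∧ F.sameOK (w ++ c) (c ++ w) = true)
    {reps : List ℕ} (hreps : ∀ r ∈ reps, (∃ w ∈ W, runWord F.T w 0 = r) ∨ ∃ a ∈ alts, a.p = r)
    (hcover : ∀ p : Fin N, ∃ r : Fin N, (∃ i < n, iterW F.T c i r = p) ∧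
      ((∃ i, F.quickOK lab c fuel i r = true) ∨ (r : ℕ) ∈ reps))
    {Z : List (List ℕ)}
    (hfix : ∀ y ∈ F.H, y * F.val c = F.val c * y → ∃ z ∈ Z, y = F.val z)
    {x : Equiv.Perm (Fin N)} (hxR : x ∈ F.R) (hx : x * F.val c = F.val c * x) :
    ∃ i < n, ∃ w ∈ W, ∃ z ∈ Z, x = F.val c ^ i * F.val w * F.val z := by
  obtain ⟨r, ⟨i, hi, hir⟩, hr⟩ := hcover (x F.z0)
  let y := (F.val c ^ i)⁻¹ * x
  have hyR : y ∈ F.R := F.R.mul_mem (F.R.inv_mem (F.R.pow_mem (F.val_mem hc) i)) hxR
  have hy : y * F.val c = F.val c * y :=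
    ((Commute.pow_left (Commute.refl (F.val c)) i).inv_left.mul_left hx).eq
  have hy0 : y F.z0 = r := by
    have e : (F.val c ^ i) r = x F.z0 := Fin.ext ((F.val_pow_apply hc i r).trans hir)
    simp only [y, Equiv.Perm.mul_apply, ← e]
    simp
  rcases hr with ⟨j, hj⟩ | hr
  · exact absurd hy0 (F.quick_sound hlab hc hj hyR hy)
  obtain ⟨w, hw, hwr⟩ | ⟨a, ha, hap⟩ := hreps r hr
  · obtain ⟨hwl, hwc⟩ := hW w hw
    have hcw : Commute (F.val w) (F.val c) := by
      show F.val w * F.val c = F.val c * F.val w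
      rw [← F.val_append, ← F.val_append]
      exact (F.val_eq (List.forall_mem_append.2 ⟨hwl, hc⟩) (List.forall_mem_append.2 ⟨hc, hwl⟩)
        hwc).symm
    have hw0 : F.val w F.z0 = r := Fin.ext (by rw [F.val_apply hwl]; exact hwr)
    obtain ⟨z, hz, hyz⟩ := hfix _ (F.mem_H.2 ⟨F.R.mul_mem (F.R.inv_mem (F.val_mem hwl)) hyR, by
      rw [Equiv.Perm.mul_apply, hy0, ← hw0, Equiv.Perm.inv_def, Equiv.symm_apply_apply]⟩)
      (hcw.inv_left.mul_left (show Commute y (F.val c) from hy)).eq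
    refine ⟨i, hi, w, hw, z, hz, ?_⟩
    rw [← hyz]
    simp only [y]
    group
  · exact absurd hy0 (F.alt_sound hc a hap.symm (halts a ha) hyR hy)

/-- The check that an element of the stabiliser of the first base point commuting with a word is
listed. -/
noncomputable def _root_.Cfsg.Agent.PermCent.Tables.fixOK (F : Tables N) (c : List ℕ) (i : ℕ) (t ti : List ℕ) (Z : List (List ℕ)) : Bool :=
  (t ++ ti ++ Z.flatten).all (fun l => F.letters.contains l) &&
    (Nat.beq (runWord F.T t 0) 0 && (F.sameOK (ti ++ t) [] &&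
    (Nat.beq (runWord F.T t F.L1.base) (iterW F.T c i 0) &&
    F.K.all (fun k => !(F.sameOK (c ++ (ti ++ k ++ t)) (ti ++ k ++ t ++ c)) ||
      Z.any fun z => F.sameOK (ti ++ k ++ t) z))))

theorem fix_sound {c : List ℕ} (hc : ∀ l ∈ c, l ∈ F.letters) {i : ℕ} {t ti : List ℕ}
    {Z : List (List ℕ)} (h : F.fixOK c i t ti Z = true)
    {y : Equiv.Perm (Fin N)} (hy : y ∈ F.H) (hyc : y * F.val c = F.val c * y) :
    ∃ z ∈ Z, y = F.val z := by
  simp only [Tables.fixOK, Bool.and_eq_true, List.all_eq_true, Bool.or_eq_true, Bool.not_eq_true',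
    List.contains_iff_mem, List.mem_append, List.any_eq_true, List.mem_flatten] at h
  obtain ⟨hl, ht0, hti, ht1, hk⟩ := h
  have hlt : ∀ l ∈ t, l ∈ F.letters := fun l h => hl l (Or.inl (Or.inl h))
  have hlti : ∀ l ∈ ti, l ∈ F.letters := fun l h => hl l (Or.inl (Or.inr h))
  have Ht : F.val t ∈ F.H := F.mem_H.2 ⟨F.val_mem hlt,
    Fin.ext (by rw [F.val_apply hlt]; exact Nat.eq_of_beq_eq_true ht0)⟩
  have e1 : F.val t F.z1 = (F.val c ^ i) F.z0 := Fin.ext (by
    rw [F.val_apply hlt, F.val_pow_apply hc]; exact Nat.eq_of_beq_eq_true ht1)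
  have hy0 := (F.mem_H.1 hy).2
  let k := (F.val t)⁻¹ * y * F.val t
  have hkH : k ∈ F.H := F.H.mul_mem (F.H.mul_mem (F.H.inv_mem Ht) hy) Ht
  have hk1 : k F.z1 = F.z1 := by
    simp only [k, Equiv.Perm.mul_apply, e1, F.pow_apply_comm hyc, hy0]
    rw [← e1]; simp
  obtain ⟨w, hw, hkw⟩ := F.mem_K hkH hk1
  have hwl := (F.hK w hw).1
  have hall : ∀ l ∈ ti ++ w ++ t, l ∈ F.letters :=
    List.forall_mem_append.2 ⟨List.forall_mem_append.2 ⟨hlti, hwl⟩, hlt⟩
  have e : F.val ti = (F.val t)⁻¹ := eq_inv_of_mul_eq_one_right (by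
    rw [← F.val_append, F.val_eq (List.forall_mem_append.2 ⟨hlti, hlt⟩) (by simp) hti]
    rfl)
  have hy' : F.val (ti ++ w ++ t) = y := by
    rw [F.val_append, F.val_append, ← hkw, e]; simp only [k]; group
  rcases hk w hw with h2 | ⟨z, hz, h2⟩
  · refine absurd ?_ (Bool.eq_false_iff.1 h2)
    have heq : F.val (c ++ (ti ++ w ++ t)) = F.val (ti ++ w ++ t ++ c) := by
      rw [F.val_append c, F.val_append _ c, hy', hyc]
    simp only [Tables.sameOK, Bool.and_eq_true]
    have hb : ∀ q : Fin N, Nat.beq (runWord F.T (c ++ (ti ++ w ++ t)) q)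
        (runWord F.T (ti ++ w ++ t ++ c) q) = true := fun q => by
      rw [← F.val_apply (List.forall_mem_append.2 ⟨hc, hall⟩),
        ← F.val_apply (List.forall_mem_append.2 ⟨hall, hc⟩), heq]
      exact Nat.beq_refl _
    exact ⟨hb F.z0, hb F.z1, hb F.z2⟩
  · refine ⟨z, hz, ?_⟩
    rw [← F.val_eq hall (fun l h => hl l (Or.inr ⟨z, hz, h⟩)) h2, hy']

end Frame

end Cfsg.Agent.PermCent
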